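import Groth.Prelude.Def_TwSh
import Groth.Agent.StMod.Sect.Descent

/-!
# Twistedness is fppf local on the base (helper34)
-/

set_option autoImplicit false
set_option backward.isDefEq.respectTransparency false
set_option backward.isDefEq.respectTransparency.types false

universe u

open CategoryTheory CategoryTheory.Limits AlgebraicGeometry Opposite TopologicalSpace
open Groth.StkBase Groth.DescentBase
open Groth.PicAux (pullSec)

noncomputable section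

namespace Groth.TwLocal

variable {S : Scheme.{u}}

theorem flat_eqToHom_comp {A B C : Scheme.{u}} (h : A = B) (f : B ⟶ C) [Flat f] : Flat (eqToHom h ≫ f) :=
  inferInstance

/-- Sections of a cartesian module are detected after a flat family of objects covering jointly. -/
theorem eq_of_forall_map_app_eq {𝒳 : AlgSt.Cat S} {F : StMod.Mod 𝒳} (hF : F.IsCartesian) {ξ : 𝒳.obj}
    {U : (StMod.sch 𝒳 ξ).Opens} {s t : Γ(F.obj ξ, U)}
    {κ : Type u} (ζ : κ → 𝒳.obj) (ψ : ∀ k, ζ k ⟶ ξ) [∀ k, Flat (StMod.bmap 𝒳 (ψ k))]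
    (hsurj : ∀ x, ∃ k y, StMod.bmap 𝒳 (ψ k) y = x)
    (h : ∀ k, (F.map (ψ k) rfl).app U s = (F.map (ψ k) rfl).app U t) : s = t := by
  refine pullSec_injective (f := fun k => StMod.bmap 𝒳 (ψ k)) hsurj fun k => ?_
  have e := h k
  rw [← Groth.StModSect.cmp_pullSec, ← Groth.StModSect.cmp_pullSec] at e
  exact (Groth.StModSect.cmp_app_bijective F hF (ψ k) rfl _).1 e

variable {𝒳 : AlgSt.Cat S} {A : (Over S)ᵒᵖ ⥤ GrpCat.{u}}

/-- The inertial action commutes with restriction. -/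
theorem map_app_inert (F : StMod.Mod 𝒳) (ι : TwSh.BandHom 𝒳 A) {ζ ξ : 𝒳.obj} (ψ : ζ ⟶ ξ)
    (a : A.obj (op (𝒳.p.obj ξ))) (U : (StMod.sch 𝒳 ξ).Opens) (s : Γ(F.obj ξ, U)) :
    (F.map ψ rfl).app U ((TwSh.inert F ξ (ι.hom ξ a)).app U s) =
      (TwSh.inert F ζ (ι.hom ζ (A.map (𝒳.p.map ψ).op a))).app (StMod.bmap 𝒳 ψ ⁻¹ᵁ U)
        ((F.map ψ rfl).app U s) := by
  rw [TwSh.inert_app_apply, TwSh.inert_app_apply]
  set α := ι.hom ξ a
  set β := ι.hom ζ (A.map (𝒳.p.map ψ).op a)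
  have k₁ := congrArg (fun f => (ConcreteCategory.hom f) s)
    (StMod.Mod.map_comp_app F ψ α.hom.1 rfl (TwSh.bmap_autO ξ α) U)
  have k₂ := congrArg (fun f => (ConcreteCategory.hom f) s)
    (StMod.Mod.map_comp_app F β.hom.1 ψ (TwSh.bmap_autO ζ β) rfl U)
  simp only at k₁ k₂
  refine k₁.symm.trans (Eq.trans ?_ k₂)
  have key : ∀ (χ χ' : ζ ⟶ ξ), χ = χ' → ∀ {g g'} (hg : StMod.bmap 𝒳 χ = g) (hg' : StMod.bmap 𝒳 χ' = g'),
      HEq ((F.map χ hg).app U s) ((F.map χ' hg').app U s) := by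
    rintro χ _ rfl g g' hg hg'
    exact TwSh.map_app_heq F χ hg hg' U s
  exact eq_of_heq (key _ _ (ι.natural ψ a).symm _ _)

/-- Restriction is semilinear for global functions. -/
theorem map_app_resTop_smul (F : StMod.Mod 𝒳) {ζ ξ : 𝒳.obj} (ψ : ζ ⟶ ξ) (r : Γ(StMod.sch 𝒳 ξ, ⊤))
    (U : (StMod.sch 𝒳 ξ).Opens) (s : Γ(F.obj ξ, U)) :
    (F.map ψ rfl).app U (TwSh.resTop _ U r • s) =
      TwSh.resTop _ (StMod.bmap 𝒳 ψ ⁻¹ᵁ U) ((StMod.bmap 𝒳 ψ).appTop r) •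
        (show Γ(F.obj ζ, StMod.bmap 𝒳 ψ ⁻¹ᵁ U) from (F.map ψ rfl).app U s) := by
  refine (Scheme.Modules.Hom.app_smul _ _ _).trans ?_
  have e : (StMod.bmap 𝒳 ψ).app U (TwSh.resTop _ U r) =
      TwSh.resTop _ (StMod.bmap 𝒳 ψ ⁻¹ᵁ U) ((StMod.bmap 𝒳 ψ).appTop r) :=
    congr(($((StMod.bmap 𝒳 ψ).naturality (homOfLE (le_top : U ≤ ⊤)).op)) r)
  rw [← e]
  rfl

theorem charUnit_map (χ : A ⟶ TwSh.GmPsh S) {ζ ξ : 𝒳.obj} (ψ : ζ ⟶ ξ) (a : A.obj (op (𝒳.p.obj ξ))) (d : ℤ) :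
    ((TwSh.charUnit χ ζ (A.map (𝒳.p.map ψ).op a) ^ d)⁻¹).val =
      (StMod.bmap 𝒳 ψ).appTop ((TwSh.charUnit χ ξ a ^ d)⁻¹).val := by
  have h : TwSh.charUnit χ ζ (A.map (𝒳.p.map ψ).op a) =
      Units.map ((StMod.bmap 𝒳 ψ).appTop.hom.toMonoidHom) (TwSh.charUnit χ ξ a) :=
    congr($(χ.naturality (𝒳.p.map ψ).op) a)
  rw [h, ← map_zpow, ← map_inv]
  rfl

/-- Twistedness descends along a flat jointly surjective family on the base. -/
theorem isTwisted_of_cover {X : Over S} (h𝒳 : FibCat.IsFibGrpd 𝒳.p) (χ : A ⟶ TwSh.GmPsh S) (d : ℤ)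
    (π : 𝒳 ⥤ᵇ AlgSt.ofSch X) (ι : TwSh.BandHom 𝒳 A)
    (hι : ∀ (ξ : 𝒳.obj) (a : A.obj (op (𝒳.p.obj ξ))), π.map (ι.hom ξ a).hom.1 = 𝟙 _)
    {I : Type u} (η : I → (AlgSt.ofSch X).obj) (hfl : ∀ i, Flat (η i).sec.down.left)
    (hcov : ∀ x : X.left, ∃ i, x ∈ Set.range (η i).sec.down.left.base)
    (F : StMod.QCoh 𝒳)
    (h : ∀ i, TwSh.IsTwisted (StMod.Mod.comap (StMod.fibFst π (η i)) F.obj)
      (TwSh.BandHom.fib π (η i) ι hι) χ d) : TwSh.IsTwisted F.obj ι χ d := by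
  intro ξ a U s
  obtain ⟨η₀, hη₀⟩ : ∃ η₀, π.obj ξ = η₀ := ⟨_, rfl⟩
  have hb : η₀.base = 𝒳.p.obj ξ := by rw [← hη₀]; exact π.w_obj ξ
  let t : (𝒳.p.obj ξ).left ⟶ X.left := eqToHom (congrArg Comma.left hb.symm) ≫ η₀.sec.down.left
  have ht : t ≫ X.hom = (𝒳.p.obj ξ).hom := by
    have := Over.w (eqToHom hb.symm ≫ η₀.sec.down)
    rwa [Over.comp_left, Over.eqToHom_left] at this
  let q : ∀ i, pullback t (η i).sec.down.left ⟶ (𝒳.p.obj ξ).left := fun i => pullback.fst _ _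
  have hlift : ∀ i, ∃ (ζ : 𝒳.obj) (ψ : ζ ⟶ ξ) (hz : 𝒳.p.obj ζ = Over.mk (q i ≫ (𝒳.p.obj ξ).hom)),
      𝒳.p.map ψ = eqToHom hz ≫ Over.homMk (q i) rfl := fun i => exists_lift' h𝒳 (x := ξ) _
  choose ζ ψ hz hψ using hlift
  have hbm : ∀ i, StMod.bmap 𝒳 (ψ i) = eqToHom (congrArg Comma.left (hz i)) ≫ q i := fun i => by
    show (𝒳.p.map (ψ i)).left = _
    rw [hψ, Over.comp_left, Over.eqToHom_left]
    rfl
  have : ∀ i, Flat (StMod.bmap 𝒳 (ψ i)) := fun i => by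
    rw [hbm]
    have := hfl i
    infer_instance
  refine eq_of_forall_map_app_eq F.property.1 ζ ψ ?_ fun i => ?_
  · intro x
    obtain ⟨i, y, hy⟩ := hcov (t x)
    obtain ⟨z, hz₁, -⟩ := Scheme.Pullback.exists_preimage_pullback (f := t) (g := (η i).sec.down.left) x y hy.symm
    refine ⟨i, (eqToHom (congrArg Comma.left (hz i)).symm : _ ⟶ StMod.sch 𝒳 (ζ i)) z, ?_⟩
    rw [hbm, ← Scheme.Hom.comp_apply]
    simp only [← Category.assoc, eqToHom_trans, eqToHom_refl, Category.id_comp]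
    exact hz₁
  · -- the object over `η i`
    have hu : ∃ u : π.obj (ζ i) ⟶ η i, True := by
      have hζ : (π.obj (ζ i)).base = 𝒳.p.obj (ζ i) := π.w_obj _
      have hv : (eqToHom (congrArg Comma.left (hζ.trans (hz i))) ≫ pullback.snd t (η i).sec.down.left) ≫
          (η i).base.hom = (π.obj (ζ i)).base.hom := by
        rw [← Over.w (η i).sec.down, Category.assoc, ← pullback.condition_assoc, ht]
        have := Over.w (eqToHom (hζ.trans (hz i)))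
        rwa [Over.eqToHom_left] at this
      refine ⟨⟨Over.homMk _ hv, ?_⟩, trivial⟩
      refine ULift.down_injective ?_
      show Over.homMk _ hv ≫ (η i).sec.down = _
      have hs : (π.obj (ζ i)).sec.down = (π.map (ψ i)).hom ≫ (π.obj ξ).sec.down :=
        (congrArg ULift.down (π.map (ψ i)).map_sec).symm
      rw [hs]
      apply Over.OverMorphism.ext
      have hm : (π.map (ψ i)).hom.left =
          eqToHom (congrArg Comma.left hζ) ≫ StMod.bmap 𝒳 (ψ i) ≫ eqToHom (congrArg Comma.left (π.w_obj ξ).symm) := by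
        have := congrArg Over.Hom.left (Functor.congr_hom π.w (ψ i))
        simpa [Over.comp_left, Over.eqToHom_left] using this
      subst hη₀
      rw [Over.comp_left, Over.comp_left, hm, hbm]
      show (_ ≫ pullback.snd _ _) ≫ (η i).sec.down.left = _
      rw [Category.assoc, ← pullback.condition]
      simp [q, t]
    obtain ⟨u, -⟩ := hu
    have e := h i (CostructuredArrow.mk u) (A.map (𝒳.p.map (ψ i)).op a) (StMod.bmap 𝒳 (ψ i) ⁻¹ᵁ U)
      ((F.obj.map (ψ i) rfl).app U s)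
    rw [map_app_inert, map_app_resTop_smul, ← charUnit_map]
    refine Eq.trans ?_ e
    exact congr(($(TwSh.inert_comap_fibFst π (η i) F.obj (CostructuredArrow.mk u)
      (ι.hom (ζ i) (A.map (𝒳.p.map (ψ i)).op a)) (hι _ _))).app _ _).symm

end Groth.TwLocal
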